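import Mathlib
import Cfsg.Agent.Lib.Helper50.FOT.Defs
import Cfsg.Agent.S0034
import Cfsg.Agent.S0035
import Cfsg.Agent.S0042

/-!
# Project FOT (S3999): package [FF]

A Frobenius complement `C` of a finite group has Frobenius data `FD X K C`
(from the landed S0034, S0035, S0042).
-/

set_option autoImplicit false
open scoped Pointwise

namespace Cfsg.Agent.Lib.Helper49.FOT

open Cfsg.Agent.Lib.Helper50.FOT

universe u

theorem pkgFF : PkgFF.{u} := by
  intro X _ _ C hC
  obtain ⟨N, hNset, hNn, hNC⟩ := Cfsg.Agent.S0035.result C hC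
  obtain ⟨N', hN'set, hN'n, hN'nil⟩ := Cfsg.Agent.S0042.result C hC
  have hNN' : N' = N := SetLike.coe_injective (hN'set.trans hNset.symm)
  subst hNN'
  obtain ⟨hcard, hmod⟩ := Cfsg.Agent.S0034.result C hC
  have hKcard : Nat.card N' = C.index := by
    rw [← hcard]
    exact Nat.card_congr (Equiv.setCongr hNset)
  have hCne : C ≠ ⊥ := hC.1
  have hCtop : C ≠ ⊤ := hC.2.1
  have hcgt : 1 < Nat.card C := (Subgroup.one_lt_card_iff_ne_bot C).mpr hCne
  have hkgt : 1 < Nat.card N' := by
    rw [hKcard]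
    have h0 : C.index ≠ 0 := Subgroup.index_ne_zero_of_finite
    have h1 : C.index ≠ 1 := fun h => hCtop (Subgroup.index_eq_one.mp h)
    omega
  have hcop : (Nat.card N').Coprime (Nat.card C) := by
    rw [hKcard]
    have h1 : 1 % Nat.card C = 1 := Nat.mod_eq_of_lt hcgt
    rw [h1] at hmod
    show Nat.gcd C.index (Nat.card C) = 1
    rw [Nat.gcd_comm, Nat.gcd_rec, hmod]
    exact Nat.gcd_one_left _
  refine ⟨N', hNn, hN'nil, hNC, hcop, hkgt, hcgt, ?_, ?_⟩
  · intro x
    by_cases hx : x ∈ N'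
    · exact Or.inl hx
    · right
      have hx' : x ∉ Cfsg.frobeniusKernel C := by
        rw [← hNset]; exact hx
      simp only [Cfsg.frobeniusKernel, Set.mem_ofPred_eq, not_or, not_forall, not_not] at hx'
      exact hx'.2
  · intro y hy hy1 x hx hxy
    by_contra hx1
    have hxC : x ∉ C := by
      intro hxC
      have hd := hNC.disjoint
      exact hx1 (Subgroup.mem_bot.mp (hd.le_bot ⟨hx, hxC⟩))
    have h := hC.2.2 x hxC
    have hmem2 : y ∈ MulAut.conj x • C := by
      rw [Subgroup.mem_pointwise_smul_iff_inv_smul_mem]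
      have : (MulAut.conj x)⁻¹ • y = y := by
        rw [← map_inv, MulAut.smul_def, MulAut.conj_apply, inv_inv]
        rw [mul_assoc, ← hxy, ← mul_assoc, inv_mul_cancel, one_mul]
      rw [this]; exact hy
    have hmem : y ∈ C ⊓ MulAut.conj x • C := ⟨hy, hmem2⟩
    rw [h] at hmem
    exact hy1 (Subgroup.mem_bot.mp hmem)

end Cfsg.Agent.Lib.Helper49.FOT
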